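import Groth.Agent.QCohLib.Exact
import Groth.Agent.QCohLib.Push
import Groth.Agent.DevLib.Closed
import Groth.Agent.PullbackMod.Hom
import Groth.Prelude.Def_ClSub2

/-!
# Serre's criterion of affineness
-/

set_option autoImplicit false

universe u

open CategoryTheory CategoryTheory.Limits Opposite TopologicalSpace AlgebraicGeometry
open Groth.Agent.CohBase Groth.Agent.PullbackMod

noncomputable section

namespace Groth.Agent.SerreAff

variable {X : Scheme.{u}}

/-- Cohomology on the whole space in the form of `HU`. -/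
lemma subsingleton_HU_top {M : X.Modules} {n : ℕ} (h : Subsingleton (Coh.HH X M n)) :
    Subsingleton (HU (⊤ : X.Opens) (Coh.toAb M) n) :=
  haveI := h
  (HHEquiv M n).symm.toEquiv.subsingleton

/-- Epimorphisms whose kernel has no `H¹` are surjective on global sections. -/
theorem surjective_top {M N : X.Modules} (φ : M ⟶ N) [Epi φ]
    (h : Subsingleton (Coh.HH X (kernel φ) 1)) : Function.Surjective (φ.app ⊤) := by
  let T : ShortComplex X.Modules := ShortComplex.mk (kernel.ι φ) φ (kernel.condition φ)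
  have hT : T.ShortExact := ShortComplex.ShortExact.mk'
    (ShortComplex.exact_of_f_is_kernel _ (kernelIsKernel φ)) inferInstance inferInstance
  haveI : Subsingleton (HU (⊤ : X.Opens) (T.map (QCohLib.toAbF X)).X₁ 1) := subsingleton_HU_top h
  exact sections_surjective (QCohLib.toAb_shortExact hT) ⊤

/-- `H¹` of an extension. -/
theorem subsingleton_mid {T : ShortComplex X.Modules} (hT : T.ShortExact) (n : ℕ)
    (h1 : Subsingleton (Coh.HH X T.X₁ n)) (h3 : Subsingleton (Coh.HH X T.X₃ n)) :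
    Subsingleton (Coh.HH X T.X₂ n) := by
  refine CohBase.subsingleton_HH _ _ (subsingleton_of_forall_eq 0 fun x => ?_)
  let T' := T.map (QCohLib.toAbF X)
  haveI : Subsingleton (HU (⊤ : X.Opens) T'.X₁ n) := subsingleton_HU_top h1
  haveI : Subsingleton (HU (⊤ : X.Opens) T'.X₃ n) := subsingleton_HU_top h3
  obtain ⟨y, hy⟩ := Abelian.Ext.covariant_sequence_exact₂ (freeAb (⊤ : X.Opens))
    (QCohLib.toAb_shortExact hT) x (Subsingleton.elim _ _)
  rw [← hy, Subsingleton.elim y 0, Abelian.Ext.zero_comp]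
  rfl

/-- Multiplication by a global function. -/
def mulBy (f : Γ(X, ⊤)) : Coh.structureModule X ⟶ Coh.structureModule X :=
  ⟨PresheafOfModules.homMk
    { app := fun U => AddCommGrpCat.ofHom
        (AddMonoidHom.mulLeft (X.presheaf.map (homOfLE (le_top : U.unop ≤ ⊤)).op f : Γ(X, U.unop)))
      naturality := fun U V i => by
        ext (s : Γ(X, U.unop))
        show X.presheaf.map (homOfLE le_top).op f * X.presheaf.map i s =
          X.presheaf.map i (X.presheaf.map (homOfLE le_top).op f * s)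
        rw [map_mul, ← ConcreteCategory.comp_apply (X.presheaf.map (homOfLE le_top).op) (X.presheaf.map i),
          ← Functor.map_comp]
        rfl }
    (fun U r s => mul_left_comm (X.presheaf.map (homOfLE le_top).op f) r s)⟩

lemma mulBy_app (f : Γ(X, ⊤)) (V : X.Opens) (s : Γ(X, V)) :
    (mulBy f).app V s = (X.presheaf.map (homOfLE le_top).op f * s : Γ(X, V)) := rfl

lemma mulBy_surjective (f : Γ(X, ⊤)) {V : X.Opens} (hV : V ≤ X.basicOpen f) :
    Function.Surjective ((mulBy f).app V) := fun (m : Γ(X, V)) => by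
  have hu : IsUnit (X.presheaf.map (homOfLE (le_top : V ≤ ⊤)).op f) := by
    have h0 : IsUnit (X.presheaf.map (homOfLE (X.basicOpen_le f)).op f) :=
      X.toRingedSpace.isUnit_res_basicOpen f
    have h1 := congr($(X.presheaf.map_comp (homOfLE (X.basicOpen_le f)).op (homOfLE hV).op) f)
    exact (h1.trans rfl : X.presheaf.map (homOfLE (le_top : V ≤ ⊤)).op f = _).symm ▸
      h0.map (X.presheaf.map (homOfLE hV).op).hom
  exact ⟨(↑hu.unit⁻¹ * m : Γ(X, V)), (mulBy_app f V _).trans (by rw [← mul_assoc]; simp)⟩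

variable (X) in
/-- The hypothesis of Serre's criterion. -/
def IdealAcyclic : Prop :=
  ∀ (I : X.Modules) (i : I ⟶ Coh.structureModule X), Mono i → Coh.IsQCoh I → Subsingleton (Coh.HH X I 1)

/-- Quasi-coherent submodules have no `H¹`. -/
def SubAcyclic (M : X.Modules) : Prop :=
  ∀ (N : X.Modules) (j : N ⟶ M), Mono j → Coh.IsQCoh N → Subsingleton (Coh.HH X N 1)

/-- Acyclicity of submodules passes to sums with `O`. -/
theorem subAcyclic_biprod (h : IdealAcyclic X) {E : X.Modules} (hE : SubAcyclic E) :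
    SubAcyclic (E ⊞ Coh.structureModule X) := fun N j hj hN => by
  let p := j ≫ (biprod.snd : E ⊞ Coh.structureModule X ⟶ _)
  have hk := (QCohLib.isQCoh_image p hN inferInstance).1
  have hq := (QCohLib.isQCoh_image (kernel.ι p) hk hN).2
  let T : ShortComplex X.Modules :=
    ShortComplex.mk (kernel.ι p) (cokernel.π (kernel.ι p)) (cokernel.condition _)
  have hT : T.ShortExact := ShortComplex.ShortExact.mk'
    (ShortComplex.exact_of_g_is_cokernel _ (cokernelIsCokernel _)) inferInstance inferInstance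
  refine subsingleton_mid hT 1 (hE _ (kernel.ι p ≫ j ≫ biprod.fst) ?_ hk)
    (h _ (Abelian.factorThruCoimage p) inferInstance hq)
  refine Preadditive.mono_of_cancel_zero _ fun g hg => ?_
  have h1 : g ≫ kernel.ι p ≫ j = 0 := biprod.hom_ext _ _ (by simpa using hg)
    (by simp only [Category.assoc, zero_comp, show j ≫ biprod.snd = p from rfl, kernel.condition, comp_zero])
  rw [← cancel_mono (kernel.ι p ≫ j), zero_comp]
  exact h1

/-- A module mapping onto the ideal generated by given functions. -/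
theorem exists_cover_hom (h : IdealAcyclic X) (l : List Γ(X, ⊤)) :
    ∃ (E : X.Modules) (g : E ⟶ Coh.structureModule X), Coh.IsQCoh E ∧ SubAcyclic E ∧
      (∀ e, (show Γ(X, ⊤) from g.app ⊤ e) ∈ Ideal.span {f : Γ(X, ⊤) | f ∈ l}) ∧
      ∀ f ∈ l, ∀ V ≤ X.basicOpen f, Function.Surjective (g.app V) := by
  induction l with
  | nil =>
    refine ⟨kernel (𝟙 (Coh.structureModule X)), kernel.ι (𝟙 (Coh.structureModule X)),
      (QCohLib.isQCoh_image _ inferInstance inferInstance).1,
      fun N j hj hN => h N (j ≫ kernel.ι _) inferInstance hN, fun e => ?_, fun f hf => by simp at hf⟩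
    have := congr($(kernel.condition (𝟙 (Coh.structureModule X))).app ⊤ e)
    rw [Category.comp_id] at this
    show (show Γ(X, ⊤) from _) ∈ _
    rw [show (kernel.ι (𝟙 (Coh.structureModule X))).app ⊤ e = 0 from this]
    exact Submodule.zero_mem _
  | cons f l ih =>
    obtain ⟨E, g, hE, hS, hspan, hsurj⟩ := ih
    refine ⟨E ⊞ Coh.structureModule X, biprod.desc g (mulBy f), ?_, subAcyclic_biprod h hS, fun e => ?_, ?_⟩
    · exact QCohLib.isQCoh_X₂ (ShortComplex.Splitting.ofHasBinaryBiproduct E (Coh.structureModule X)).shortExact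
        hE inferInstance
    · rw [biprod.desc_eq, Scheme.Modules.Hom.add_app]
      let t : Γ(X, ⊤) := (biprod.snd : E ⊞ Coh.structureModule X ⟶ _).app ⊤ e
      let s : Γ(X, ⊤) := g.app ⊤ ((biprod.fst : E ⊞ Coh.structureModule X ⟶ _).app ⊤ e)
      show s + X.presheaf.map (homOfLE le_top).op f * t ∈ _
      have hf : X.presheaf.map (homOfLE (le_top : (⊤ : X.Opens) ≤ ⊤)).op f = f := by
        rw [show (homOfLE (le_top : (⊤ : X.Opens) ≤ ⊤)).op = 𝟙 _ from rfl, X.presheaf.map_id]
        rfl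
      rw [hf]
      refine Submodule.add_mem _ (Ideal.span_mono (fun a ha => List.mem_cons_of_mem f ha) (hspan _))
        (Ideal.mul_mem_right _ _ (Ideal.subset_span (by simp)))
    · intro f' hf' V hV m
      rcases List.mem_cons.1 hf' with rfl | hf'
      · obtain ⟨a, ha⟩ := mulBy_surjective f' hV m
        exact ⟨(biprod.inr : _ ⟶ E ⊞ Coh.structureModule X).app V a,
          (congr($(biprod.inr_desc g (mulBy f')).app V a)).trans ha⟩
      · obtain ⟨a, ha⟩ := hsurj f' hf' V hV m
        exact ⟨(biprod.inl : _ ⟶ E ⊞ Coh.structureModule X).app V a,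
          (congr($(biprod.inl_desc g (mulBy f)).app V a)).trans ha⟩

/-- Functions without common zeros generate the unit ideal. -/
theorem span_eq_top (h : IdealAcyclic X) (l : List Γ(X, ⊤))
    (hl : ∀ x : X, ∃ f ∈ l, x ∈ X.basicOpen f) : Ideal.span {f : Γ(X, ⊤) | f ∈ l} = ⊤ := by
  obtain ⟨E, g, hE, hS, hspan, hsurj⟩ := exists_cover_hom h l
  haveI : Epi g := (epi_iff_stalk g).2 fun x z => by
    obtain ⟨W, hW, m, rfl⟩ := TopCat.Presheaf.exists_germ_eq (Coh.structureModule X).presheaf z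
    obtain ⟨f, hf, hx⟩ := hl x
    obtain ⟨a, ha⟩ := hsurj f hf (W ⊓ X.basicOpen f) inf_le_right
      ((Coh.structureModule X).presheaf.map (homOfLE inf_le_left).op m)
    refine ⟨E.presheaf.germ (W ⊓ X.basicOpen f) x ⟨hW, hx⟩ a, ?_⟩
    rw [stalkLin_germ, ha]
    exact TopCat.Presheaf.germ_res_apply _ _ x _ m
  obtain ⟨e, he⟩ := surjective_top g
    (hS _ (kernel.ι g) inferInstance (QCohLib.isQCoh_image g hE inferInstance).1) (1 : Γ(X, ⊤))
  rw [Ideal.eq_top_iff_one, ← show (show Γ(X, ⊤) from g.app ⊤ e) = 1 from he]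
  exact hspan e

/-- The restriction to a closed subscheme is onto. -/
theorem epi_unitToPush {Z : Scheme.{u}} (i : Z ⟶ X) [IsClosedImmersion i] :
    Epi (ClSub.unitToPush i) := by
  refine (epi_iff_stalk _).2 fun x z => ?_
  obtain ⟨W, hW, m, rfl⟩ :=
    TopCat.Presheaf.exists_germ_eq ((Scheme.Modules.pushforward i).obj (Coh.structureModule Z)).presheaf z
  obtain ⟨_, ⟨V, hV, rfl⟩, hxV, hVW⟩ := X.isBasis_affineOpens.exists_subset_of_mem_open hW W.2
  obtain ⟨a, ha⟩ := i.app_surjective V hV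
    (((Scheme.Modules.pushforward i).obj (Coh.structureModule Z)).presheaf.map (homOfLE hVW).op m : Γ(Z, i ⁻¹ᵁ V))
  refine ⟨(Coh.structureModule X).presheaf.germ V x hxV a, ?_⟩
  rw [stalkLin_germ]
  exact (congrArg _ ha).trans (TopCat.Presheaf.germ_res_apply _ _ x _ m)

/-- Restriction to closed subschemes is surjective on global functions. -/
theorem appTop_surjective (h : IdealAcyclic X) {Z : Scheme.{u}} (i : Z ⟶ X) [IsClosedImmersion i] :
    Function.Surjective i.appTop := by
  haveI := epi_unitToPush i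
  haveI : Coh.IsQCoh ((Scheme.Modules.pushforward i).obj (Coh.structureModule Z)) :=
    QCohLib.isQCoh_pushforward _ i
  have hk := (QCohLib.isQCoh_image (ClSub.unitToPush i) inferInstance inferInstance).1
  exact surjective_top (ClSub.unitToPush i) (h _ (kernel.ι _) inferInstance hk)

/-- A function separating a closed point from a closed set. -/
theorem exists_function (h : IdealAcyclic X) {x : X} (hx : IsClosed ({x} : Set X)) {Z : Set X}
    (hZ : IsClosed Z) (hxZ : x ∉ Z) :
    ∃ f : Γ(X, ⊤), x ∈ X.basicOpen f ∧ ∀ z ∈ Z, z ∉ X.basicOpen f := by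
  let I := Scheme.IdealSheafData.vanishingIdeal (⟨Z ∪ {x}, hZ.union hx⟩ : Closeds X)
  let i := I.subschemeι
  have hr : Set.range i = Z ∪ {x} := by
    rw [Scheme.IdealSheafData.range_subschemeι, Scheme.IdealSheafData.coe_support_vanishingIdeal]
    rfl
  let A : I.subscheme.Opens := ⟨i ⁻¹' Zᶜ, hZ.isOpen_compl.preimage i.continuous⟩
  let B : I.subscheme.Opens := ⟨i ⁻¹' {x}ᶜ, hx.isOpen_compl.preimage i.continuous⟩
  have hAB : A ⊓ B ≤ ⊥ := fun w hw => by
    rcases (hr ▸ Set.mem_range_self w : i w ∈ Z ∪ {x}) with h' | h'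
    · exact (hw.1 h').elim
    · exact (hw.2 h').elim
  have hcov : (⊤ : I.subscheme.Opens) ≤ A ⊔ B := fun w _ => by
    by_cases h' : i w ∈ Z
    · exact Or.inr fun e => hxZ (Set.mem_singleton_iff.1 e ▸ h')
    · exact Or.inl h'
  haveI hsub : Subsingleton Γ(I.subscheme, A ⊓ B) := by
    rw [le_bot_iff.1 hAB]
    exact CommRingCat.subsingleton_of_isTerminal I.subscheme.sheaf.isTerminalOfEmpty
  let sf : ∀ b : ULift.{u} Bool, Γ(I.subscheme, (fun b : ULift.{u} Bool => bif b.down then A else B) b)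
    | ⟨true⟩ => 1
    | ⟨false⟩ => 0
  obtain ⟨s, hs, -⟩ := I.subscheme.sheaf.existsUnique_gluing'
    (fun b : ULift.{u} Bool => bif b.down then A else B) ⊤ (fun _ => homOfLE le_top)
    (fun w hw => by
      rcases hcov hw with h' | h'
      · exact Opens.mem_iSup.2 ⟨⟨true⟩, h'⟩
      · exact Opens.mem_iSup.2 ⟨⟨false⟩, h'⟩) sf (by
      rintro ⟨_ | _⟩ ⟨_ | _⟩
      · rfl
      · haveI : Subsingleton Γ(I.subscheme, B ⊓ A) := inf_comm A B ▸ hsub
        exact Subsingleton.elim (α := Γ(I.subscheme, B ⊓ A)) _ _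
      · exact Subsingleton.elim (α := Γ(I.subscheme, A ⊓ B)) _ _
      · rfl)
  obtain ⟨f, rfl⟩ := appTop_surjective h i s
  refine ⟨f, ?_, fun z hz hzf => ?_⟩
  · obtain ⟨w, hw⟩ : x ∈ Set.range i := hr ▸ Or.inr rfl
    have hwA : w ∈ A := show i w ∉ Z from hw.symm ▸ hxZ
    have h1 := I.subscheme.basicOpen_res (i.appTop f) (homOfLE (le_top : A ≤ ⊤)).op
    erw [hs ⟨true⟩] at h1
    have h2 : w ∈ I.subscheme.basicOpen (1 : Γ(I.subscheme, A)) := by
      rw [Scheme.basicOpen_one]; exact hwA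
    exact hw ▸ ((i.preimage_basicOpen (U := ⊤) f).ge (h1 ▸ h2).2 : w ∈ i ⁻¹ᵁ X.basicOpen f)
  · obtain ⟨w, rfl⟩ : z ∈ Set.range i := hr ▸ Or.inl hz
    have h1 := I.subscheme.basicOpen_res (i.appTop f) (homOfLE (le_top : B ≤ ⊤)).op
    erw [hs ⟨false⟩] at h1
    have h2 : w ∈ B ⊓ I.subscheme.basicOpen (i.appTop f) :=
      ⟨fun e => hxZ (Set.mem_singleton_iff.1 e ▸ hz), (i.preimage_basicOpen (U := ⊤) f).le hzf⟩
    rw [← h1] at h2
    simp [sf] at h2

/-- Serre's criterion. -/
theorem isAffine (hc : CompactSpace X) (h : IdealAcyclic X) : IsAffine X := by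
  have key : ∀ x : X, IsClosed ({x} : Set X) →
      ∃ f : Γ(X, ⊤), x ∈ X.basicOpen f ∧ IsAffineOpen (X.basicOpen f) := fun x hx => by
    obtain ⟨_, ⟨U, hU, rfl⟩, hxU, -⟩ :=
      X.isBasis_affineOpens.exists_subset_of_mem_open (Set.mem_univ x) isOpen_univ
    obtain ⟨f, hf, hfZ⟩ := exists_function h hx (Z := (U : Set X)ᶜ) U.2.isClosed_compl (fun h => h hxU)
    refine ⟨f, hf, ?_⟩
    have hle : X.basicOpen f ≤ U := fun z hz => not_not.1 fun hzU => hfZ z hzU hz
    have := hU.basicOpen (X.presheaf.map (homOfLE (le_top : U ≤ ⊤)).op f)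
    rwa [X.basicOpen_res, inf_eq_right.2 hle] at this
  let S : Set Γ(X, ⊤) := {f | IsAffineOpen (X.basicOpen f)}
  have hcov : Set.univ ⊆ ⋃ f : S, (X.basicOpen f.1 : Set X) := by
    intro y _
    by_contra hy
    obtain ⟨x, hxy, hx⟩ := (isClosed_closure (s := ({y} : Set X))).exists_closed_singleton
      ⟨y, subset_closure rfl⟩
    obtain ⟨f, hf, hfa⟩ := key x hx
    have hy' : y ∈ X.basicOpen f := (specializes_iff_mem_closure.2 hxy).mem_open (X.basicOpen f).2 hf
    exact hy (Set.mem_iUnion.2 ⟨⟨f, hfa⟩, hy'⟩)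
  obtain ⟨t, ht⟩ := isCompact_univ.elim_finite_subcover (fun f : S => (X.basicOpen f.1 : Set X))
    (fun f => (X.basicOpen f.1).2) hcov
  let l : List Γ(X, ⊤) := t.toList.map Subtype.val
  refine isAffine_of_isAffineOpen_basicOpen {f | f ∈ l}
    (span_eq_top h l fun x => ?_) fun f hf => ?_
  · obtain ⟨f, hf, hxf⟩ := Set.mem_iUnion₂.1 (ht (Set.mem_univ x))
    exact ⟨f.1, List.mem_map.2 ⟨f, Finset.mem_toList.2 hf, rfl⟩, hxf⟩
  · obtain ⟨g, -, rfl⟩ := List.mem_map.1 hf
    exact g.2

end Groth.Agent.SerreAff
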