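import Groth.Agent.SerreAff.Basic
import Mathlib.CategoryTheory.Limits.Shapes.Products
import Groth.Agent.QCohLib.Push
import Groth.Agent.DevLib.Closed
import Groth.Agent.PullbackMod.Hom
import Groth.Prelude.Def_ClSub2

/-!
# Serre's criterion of affineness from sections of submodules of free modules
-/

set_option autoImplicit false

universe u

open CategoryTheory CategoryTheory.Limits Opposite TopologicalSpace AlgebraicGeometry
open Groth.Agent.CohBase Groth.Agent.PullbackMod

noncomputable section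

namespace Groth.Agent.SerreAffFree

open Groth.Agent.SerreAff

variable {X : Scheme.{u}}

variable (X) in
/-- Global sections are right exact on sequences whose first term embeds in a finite free module. -/
def SecExact : Prop :=
  ∀ (S : ShortComplex X.Modules) (n : ℕ) (j : S.X₁ ⟶ ∏ᶜ (fun _ : Fin n => Coh.structureModule X)),
    S.ShortExact → Mono j → Coh.IsQCoh S.X₁ → Coh.IsQCoh S.X₂ → Coh.IsQCoh S.X₃ →
      Function.Surjective (S.g.app ⊤)

/-- The module embeds in a finite free one. -/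
def EmbFree (M : X.Modules) : Prop :=
  ∃ (n : ℕ) (j : M ⟶ ∏ᶜ (fun _ : Fin n => Coh.structureModule X)), Mono j

theorem embFree_aux {M : X.Modules} (i : M ⟶ Coh.structureModule X) [Mono i] :
    Mono (i ≫ Pi.lift fun _ : Fin 1 => 𝟙 (Coh.structureModule X)) :=
  haveI : Mono (Pi.lift fun _ : Fin 1 => 𝟙 (Coh.structureModule X)) := mono_of_mono_fac (Pi.lift_π _ (0 : Fin 1))
  inferInstance

theorem embFree_biprod {E : X.Modules} (hE : EmbFree E) : EmbFree (E ⊞ Coh.structureModule X) := by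
  obtain ⟨n, j, hj⟩ := hE
  let c : (i : Fin (n + 1)) → (E ⊞ Coh.structureModule X ⟶ Coh.structureModule X) :=
    Fin.cases biprod.snd (fun i => biprod.fst ≫ j ≫ Pi.π (fun _ : Fin n => Coh.structureModule X) i)
  refine ⟨n + 1, Pi.lift c, ⟨fun {Z} f g h => biprod.hom_ext _ _ ((cancel_mono j).1 ?_) ?_⟩⟩
  · refine Pi.hom_ext _ _ fun i => ?_
    have := h =≫ Pi.π (fun _ : Fin (n + 1) => Coh.structureModule X) i.succ
    simpa [c] using this
  · have := h =≫ Pi.π (fun _ : Fin (n + 1) => Coh.structureModule X) 0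
    simpa [c] using this

theorem surj_top (h : SecExact X) {M N : X.Modules} (φ : M ⟶ N) [Epi φ] (hM : Coh.IsQCoh M) (hN : Coh.IsQCoh N)
    (n : ℕ) (j : kernel φ ⟶ ∏ᶜ (fun _ : Fin n => Coh.structureModule X)) (hj : Mono j) :
    Function.Surjective (φ.app ⊤) :=
  h (ShortComplex.mk (kernel.ι φ) φ (kernel.condition φ)) n j
    (ShortComplex.ShortExact.mk' (ShortComplex.exact_of_f_is_kernel _ (kernelIsKernel φ)) inferInstance inferInstance)
    hj (QCohLib.isQCoh_image φ hM hN).1 hM hN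

/-- A module mapping onto the ideal generated by given functions. -/
theorem exists_cover_hom (h : SecExact X) (l : List Γ(X, ⊤)) :
    ∃ (E : X.Modules) (g : E ⟶ Coh.structureModule X), Coh.IsQCoh E ∧ EmbFree E ∧
      (∀ e, (show Γ(X, ⊤) from g.app ⊤ e) ∈ Ideal.span {f : Γ(X, ⊤) | f ∈ l}) ∧
      ∀ f ∈ l, ∀ V ≤ X.basicOpen f, Function.Surjective (g.app V) := by
  induction l with
  | nil =>
    refine ⟨kernel (𝟙 (Coh.structureModule X)), kernel.ι (𝟙 (Coh.structureModule X)),
      (QCohLib.isQCoh_image _ inferInstance inferInstance).1,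
      ⟨1, _, embFree_aux (kernel.ι (𝟙 (Coh.structureModule X)))⟩, fun e => ?_, fun f hf => by simp at hf⟩
    have := congr($(kernel.condition (𝟙 (Coh.structureModule X))).app ⊤ e)
    rw [Category.comp_id] at this
    show (show Γ(X, ⊤) from _) ∈ _
    rw [show (kernel.ι (𝟙 (Coh.structureModule X))).app ⊤ e = 0 from this]
    exact Submodule.zero_mem _
  | cons f l ih =>
    obtain ⟨E, g, hE, hS, hspan, hsurj⟩ := ih
    refine ⟨E ⊞ Coh.structureModule X, biprod.desc g (mulBy f), ?_, embFree_biprod hS, fun e => ?_, ?_⟩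
    · exact QCohLib.isQCoh_X₂ (ShortComplex.Splitting.ofHasBinaryBiproduct E (Coh.structureModule X)).shortExact
        hE inferInstance
    · rw [biprod.desc_eq, Scheme.Modules.Hom.add_app]
      let t : Γ(X, ⊤) := (biprod.snd : E ⊞ Coh.structureModule X ⟶ _).app ⊤ e
      let s : Γ(X, ⊤) := g.app ⊤ ((biprod.fst : E ⊞ Coh.structureModule X ⟶ _).app ⊤ e)
      show s + X.presheaf.map (homOfLE le_top).op f * t ∈ _
      have hf : X.presheaf.map (homOfLE (le_top : (⊤ : X.Opens) ≤ ⊤)).op f = f := by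
        rw [show (homOfLE (le_top : (⊤ : X.Opens) ≤ ⊤)).op = 𝟙 _ from rfl, X.presheaf.map_id]
        rfl
      rw [hf]
      refine Submodule.add_mem _ (Ideal.span_mono (fun a ha => List.mem_cons_of_mem f ha) (hspan _))
        (Ideal.mul_mem_right _ _ (Ideal.subset_span (by simp)))
    · intro f' hf' V hV m
      rcases List.mem_cons.1 hf' with rfl | hf'
      · obtain ⟨a, ha⟩ := mulBy_surjective f' hV m
        exact ⟨(biprod.inr : _ ⟶ E ⊞ Coh.structureModule X).app V a,
          (congr($(biprod.inr_desc g (mulBy f')).app V a)).trans ha⟩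
      · obtain ⟨a, ha⟩ := hsurj f' hf' V hV m
        exact ⟨(biprod.inl : _ ⟶ E ⊞ Coh.structureModule X).app V a,
          (congr($(biprod.inl_desc g (mulBy f)).app V a)).trans ha⟩

/-- Functions without common zeros generate the unit ideal. -/
theorem span_eq_top (h : SecExact X) (l : List Γ(X, ⊤))
    (hl : ∀ x : X, ∃ f ∈ l, x ∈ X.basicOpen f) : Ideal.span {f : Γ(X, ⊤) | f ∈ l} = ⊤ := by
  obtain ⟨E, g, hE, hS, hspan, hsurj⟩ := exists_cover_hom h l
  haveI : Epi g := (epi_iff_stalk g).2 fun x z => by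
    obtain ⟨W, hW, m, rfl⟩ := TopCat.Presheaf.exists_germ_eq (Coh.structureModule X).presheaf z
    obtain ⟨f, hf, hx⟩ := hl x
    obtain ⟨a, ha⟩ := hsurj f hf (W ⊓ X.basicOpen f) inf_le_right
      ((Coh.structureModule X).presheaf.map (homOfLE inf_le_left).op m)
    refine ⟨E.presheaf.germ (W ⊓ X.basicOpen f) x ⟨hW, hx⟩ a, ?_⟩
    rw [stalkLin_germ, ha]
    exact TopCat.Presheaf.germ_res_apply _ _ x _ m
  obtain ⟨n, j, hj⟩ := hS
  obtain ⟨e, he⟩ := surj_top h g hE inferInstance n (kernel.ι g ≫ j) inferInstance (1 : Γ(X, ⊤))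
  rw [Ideal.eq_top_iff_one, ← show (show Γ(X, ⊤) from g.app ⊤ e) = 1 from he]
  exact hspan e

/-- The restriction to a closed subscheme is onto. -/
theorem epi_unitToPush {Z : Scheme.{u}} (i : Z ⟶ X) [IsClosedImmersion i] :
    Epi (ClSub.unitToPush i) := by
  refine (epi_iff_stalk _).2 fun x z => ?_
  obtain ⟨W, hW, m, rfl⟩ :=
    TopCat.Presheaf.exists_germ_eq ((Scheme.Modules.pushforward i).obj (Coh.structureModule Z)).presheaf z
  obtain ⟨_, ⟨V, hV, rfl⟩, hxV, hVW⟩ := X.isBasis_affineOpens.exists_subset_of_mem_open hW W.2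
  obtain ⟨a, ha⟩ := i.app_surjective V hV
    (((Scheme.Modules.pushforward i).obj (Coh.structureModule Z)).presheaf.map (homOfLE hVW).op m : Γ(Z, i ⁻¹ᵁ V))
  refine ⟨(Coh.structureModule X).presheaf.germ V x hxV a, ?_⟩
  rw [stalkLin_germ]
  exact (congrArg _ ha).trans (TopCat.Presheaf.germ_res_apply _ _ x _ m)

/-- Restriction to closed subschemes is surjective on global functions. -/
theorem appTop_surjective (h : SecExact X) {Z : Scheme.{u}} (i : Z ⟶ X) [IsClosedImmersion i] :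
    Function.Surjective i.appTop := by
  haveI := epi_unitToPush i
  haveI : Coh.IsQCoh ((Scheme.Modules.pushforward i).obj (Coh.structureModule Z)) :=
    QCohLib.isQCoh_pushforward _ i
  have hk := (QCohLib.isQCoh_image (ClSub.unitToPush i) inferInstance inferInstance).1
  exact surj_top h (ClSub.unitToPush i) inferInstance inferInstance 1
    (kernel.ι (ClSub.unitToPush i) ≫ Pi.lift fun _ => 𝟙 _)
    (haveI : Mono (Pi.lift fun _ : Fin 1 => 𝟙 (Coh.structureModule X)) := mono_of_mono_fac (Pi.lift_π _ (0 : Fin 1))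
     inferInstance)

/-- A function separating a closed point from a closed set. -/
theorem exists_function (h : SecExact X) {x : X} (hx : IsClosed ({x} : Set X)) {Z : Set X}
    (hZ : IsClosed Z) (hxZ : x ∉ Z) :
    ∃ f : Γ(X, ⊤), x ∈ X.basicOpen f ∧ ∀ z ∈ Z, z ∉ X.basicOpen f := by
  let I := Scheme.IdealSheafData.vanishingIdeal (⟨Z ∪ {x}, hZ.union hx⟩ : Closeds X)
  let i := I.subschemeι
  have hr : Set.range i = Z ∪ {x} := by
    rw [Scheme.IdealSheafData.range_subschemeι, Scheme.IdealSheafData.coe_support_vanishingIdeal]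
    rfl
  let A : I.subscheme.Opens := ⟨i ⁻¹' Zᶜ, hZ.isOpen_compl.preimage i.continuous⟩
  let B : I.subscheme.Opens := ⟨i ⁻¹' {x}ᶜ, hx.isOpen_compl.preimage i.continuous⟩
  have hAB : A ⊓ B ≤ ⊥ := fun w hw => by
    rcases (hr ▸ Set.mem_range_self w : i w ∈ Z ∪ {x}) with h' | h'
    · exact (hw.1 h').elim
    · exact (hw.2 h').elim
  have hcov : (⊤ : I.subscheme.Opens) ≤ A ⊔ B := fun w _ => by
    by_cases h' : i w ∈ Z
    · exact Or.inr fun e => hxZ (Set.mem_singleton_iff.1 e ▸ h')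
    · exact Or.inl h'
  haveI hsub : Subsingleton Γ(I.subscheme, A ⊓ B) := by
    rw [le_bot_iff.1 hAB]
    exact CommRingCat.subsingleton_of_isTerminal I.subscheme.sheaf.isTerminalOfEmpty
  let sf : ∀ b : ULift.{u} Bool, Γ(I.subscheme, (fun b : ULift.{u} Bool => bif b.down then A else B) b)
    | ⟨true⟩ => 1
    | ⟨false⟩ => 0
  obtain ⟨s, hs, -⟩ := I.subscheme.sheaf.existsUnique_gluing'
    (fun b : ULift.{u} Bool => bif b.down then A else B) ⊤ (fun _ => homOfLE le_top)
    (fun w hw => by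
      rcases hcov hw with h' | h'
      · exact Opens.mem_iSup.2 ⟨⟨true⟩, h'⟩
      · exact Opens.mem_iSup.2 ⟨⟨false⟩, h'⟩) sf (by
      rintro ⟨_ | _⟩ ⟨_ | _⟩
      · rfl
      · haveI : Subsingleton Γ(I.subscheme, B ⊓ A) := inf_comm A B ▸ hsub
        exact Subsingleton.elim (α := Γ(I.subscheme, B ⊓ A)) _ _
      · exact Subsingleton.elim (α := Γ(I.subscheme, A ⊓ B)) _ _
      · rfl)
  obtain ⟨f, rfl⟩ := appTop_surjective h i s
  refine ⟨f, ?_, fun z hz hzf => ?_⟩
  · obtain ⟨w, hw⟩ : x ∈ Set.range i := hr ▸ Or.inr rfl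
    have hwA : w ∈ A := show i w ∉ Z from hw.symm ▸ hxZ
    have h1 := I.subscheme.basicOpen_res (i.appTop f) (homOfLE (le_top : A ≤ ⊤)).op
    erw [hs ⟨true⟩] at h1
    have h2 : w ∈ I.subscheme.basicOpen (1 : Γ(I.subscheme, A)) := by
      rw [Scheme.basicOpen_one]; exact hwA
    exact hw ▸ ((i.preimage_basicOpen (U := ⊤) f).ge (h1 ▸ h2).2 : w ∈ i ⁻¹ᵁ X.basicOpen f)
  · obtain ⟨w, rfl⟩ : z ∈ Set.range i := hr ▸ Or.inl hz
    have h1 := I.subscheme.basicOpen_res (i.appTop f) (homOfLE (le_top : B ≤ ⊤)).op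
    erw [hs ⟨false⟩] at h1
    have h2 : w ∈ B ⊓ I.subscheme.basicOpen (i.appTop f) :=
      ⟨fun e => hxZ (Set.mem_singleton_iff.1 e ▸ hz), (i.preimage_basicOpen (U := ⊤) f).le hzf⟩
    rw [← h1] at h2
    simp [sf] at h2

/-- Serre's criterion. -/
theorem isAffine (hc : CompactSpace X) (h : SecExact X) : IsAffine X := by
  have key : ∀ x : X, IsClosed ({x} : Set X) →
      ∃ f : Γ(X, ⊤), x ∈ X.basicOpen f ∧ IsAffineOpen (X.basicOpen f) := fun x hx => by
    obtain ⟨_, ⟨U, hU, rfl⟩, hxU, -⟩ :=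
      X.isBasis_affineOpens.exists_subset_of_mem_open (Set.mem_univ x) isOpen_univ
    obtain ⟨f, hf, hfZ⟩ := exists_function h hx (Z := (U : Set X)ᶜ) U.2.isClosed_compl (fun h => h hxU)
    refine ⟨f, hf, ?_⟩
    have hle : X.basicOpen f ≤ U := fun z hz => not_not.1 fun hzU => hfZ z hzU hz
    have := hU.basicOpen (X.presheaf.map (homOfLE (le_top : U ≤ ⊤)).op f)
    rwa [X.basicOpen_res, inf_eq_right.2 hle] at this
  let S : Set Γ(X, ⊤) := {f | IsAffineOpen (X.basicOpen f)}
  have hcov : Set.univ ⊆ ⋃ f : S, (X.basicOpen f.1 : Set X) := by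
    intro y _
    by_contra hy
    obtain ⟨x, hxy, hx⟩ := (isClosed_closure (s := ({y} : Set X))).exists_closed_singleton
      ⟨y, subset_closure rfl⟩
    obtain ⟨f, hf, hfa⟩ := key x hx
    have hy' : y ∈ X.basicOpen f := (specializes_iff_mem_closure.2 hxy).mem_open (X.basicOpen f).2 hf
    exact hy (Set.mem_iUnion.2 ⟨⟨f, hfa⟩, hy'⟩)
  obtain ⟨t, ht⟩ := isCompact_univ.elim_finite_subcover (fun f : S => (X.basicOpen f.1 : Set X))
    (fun f => (X.basicOpen f.1).2) hcov
  let l : List Γ(X, ⊤) := t.toList.map Subtype.val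
  refine isAffine_of_isAffineOpen_basicOpen {f | f ∈ l}
    (span_eq_top h l fun x => ?_) fun f hf => ?_
  · obtain ⟨f, hf, hxf⟩ := Set.mem_iUnion₂.1 (ht (Set.mem_univ x))
    exact ⟨f.1, List.mem_map.2 ⟨f, Finset.mem_toList.2 hf, rfl⟩, hxf⟩
  · obtain ⟨g, -, rfl⟩ := List.mem_map.1 hf
    exact g.2

end Groth.Agent.SerreAffFree
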