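import Groth.Agent.SerreAff.Basic
import Groth.Agent.RpushLib.Sections
import Groth.Agent.RpushLib.ToAb
import Groth.Agent.ProjCoh.MulData
import Groth.Agent.ProjCoh.PSData

/-!
# Affine morphisms by vanishing of `R¹`
-/

set_option autoImplicit false

universe u

open CategoryTheory CategoryTheory.Limits Opposite TopologicalSpace AlgebraicGeometry
open Groth.Agent.CohBase Groth.Agent.PullbackMod

noncomputable section

namespace Groth.Agent.SerreAff

variable {X : Scheme.{u}}

/-- Quasi-coherent ideals extend from retrocompact opens. -/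
theorem exists_ideal_extension (U : X.Opens) [QuasiCompact U.ι] [QuasiSeparated U.ι]
    (J : (U : Scheme.{u}).Modules) (i : J ⟶ Coh.structureModule (U : Scheme.{u})) [Mono i]
    (hJ : Coh.IsQCoh J) :
    ∃ (K : X.Modules) (k : K ⟶ Coh.structureModule X), Mono k ∧ Coh.IsQCoh K ∧
      Nonempty (K.restrict U.ι ≅ J) := by
  let j := U.ι
  let P := Scheme.Modules.pushforward j
  let R := Scheme.Modules.restrictFunctor j
  haveI : R.PreservesMonomorphisms := ⟨fun {A B} f hf => (mono_iff_stalk _).2 fun x => by
    have hf' := (mono_iff_stalk f).1 hf (j x)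
    intro a b h
    let eA := ((Scheme.Modules.restrictStalkNatIso j x).app A).addCommGroupIsoToAddEquiv
    let eB := ((Scheme.Modules.restrictStalkNatIso j x).app B).addCommGroupIsoToAddEquiv
    have hn : ∀ z, eB (stalkLin (R.map f) x z) = stalkLin f (j x) (eA z) := fun z =>
      congr($((Scheme.Modules.restrictStalkNatIso j x).hom.naturality f) z)
    exact eA.injective (hf' (by rw [← hn, ← hn, h]))⟩
  haveI : R.Additive :=
    haveI := preservesBinaryBiproducts_of_preservesBinaryCoproducts R
    Functor.additive_of_preservesBinaryBiproducts _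
  haveI : R.PreservesHomology := Functor.preservesHomology_of_preservesMonos_and_cokernels _
  haveI := hJ
  haveI : Coh.IsQCoh (P.obj J) := QCohLib.isQCoh_pushforward J j
  haveI : Coh.IsQCoh (P.obj (Coh.structureModule (U : Scheme.{u}))) := QCohLib.isQCoh_pushforward _ j
  let π := cokernel.π (P.map i)
  have hπ : Coh.IsQCoh (cokernel (P.map i)) := (QCohLib.isQCoh_image (P.map i) inferInstance inferInstance).2
  let ψ := ClSub.unitToPush j ≫ π
  haveI : Mono (P.map i) :=
    haveI : P.PreservesMonomorphisms := Functor.preservesMonomorphisms_of_adjunction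
      (Scheme.Modules.restrictAdjunction j)
    inferInstance
  refine ⟨kernel ψ, kernel.ι ψ, inferInstance, (QCohLib.isQCoh_image ψ inferInstance hπ).1, ?_⟩
  let S := ShortComplex.mk (P.map i) π (cokernel.condition _)
  have hS : S.ShortExact := ShortComplex.ShortExact.mk'
    (ShortComplex.exact_of_g_is_cokernel _ (cokernelIsCokernel _)) inferInstance inferInstance
  have hRS := hS.map_of_exact R
  haveI : IsIso (R.map (ClSub.unitToPush j)) := (isIso_iff_stalk _).2 fun x =>
    ProjCoh.stalk_bijective_of_app _ (U := ⊤) (fun V _ => by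
      haveI : IsIso (j.app (j ''ᵁ V)) := j.isIso_app _ (j.image_le_opensRange V)
      exact ConcreteCategory.bijective_of_isIso (j.app (j ''ᵁ V))) (x := x) trivial
  exact ⟨PreservesKernel.iso R ψ ≪≫ kernelIsoOfEq (R.map_comp _ _) ≪≫ kernelIsIsoComp _ _ ≪≫
    (kernelIsKernel (R.map π)).conePointUniqueUpToIso hRS.fIsKernel ≪≫
    (Scheme.Modules.restrictFunctorAdjCounitIso j).app J⟩

/-- A morphism without `R¹` on ideals is affine. -/
theorem isAffineHom {Y : Scheme.{u}} (f : X ⟶ Y) [QuasiCompact f] [QuasiSeparatedSpace X]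
    [QuasiSeparatedSpace Y]
    (h : ∀ (I : X.Modules) (i : I ⟶ Coh.structureModule X), Mono i → Coh.IsQCoh I →
      IsZero ((Coh.RpushAb f 1).obj (Coh.toAb I))) : IsAffineHom f := by
  haveI : QuasiSeparated f := QuasiSeparated.of_quasiSeparatedSpace f
  refine ⟨fun W hW => ?_⟩
  let U := f ⁻¹ᵁ W
  have hc : IsCompact (U : Set X) := f.isCompact_preimage hW.isCompact
  haveI : QuasiCompact U.ι := (quasiCompact_iff _).2 fun V hV hVc => by
    rw [U.ι.isOpenEmbedding.isInducing.isCompact_iff]
    have h1 := QuasiSeparatedSpace.inter_isCompact (U : Set X) V U.2 hc hV hVc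
    convert h1 using 1
    rw [Set.image_preimage_eq_inter_range, Scheme.Opens.range_ι, Set.inter_comm]
  have : IsAffine (U : Scheme.{u}) := isAffine (isCompact_iff_compactSpace.mp hc) fun J i hi hJ => by
    obtain ⟨K, k, hk, hK, ⟨e⟩⟩ := exists_ideal_extension U J i hJ
    haveI := hK
    obtain ⟨φ, -⟩ := RpushLib.exists_sections_equiv (M := K) f 1 hW
    have hz : IsZero ((QCohLib.toAbF Y).obj ((Coh.Rpush f 1).obj K)) :=
      (h K k hk hK).of_iso ((RpushLib.toAbRpushIso f 1).app K)
    haveI : Subsingleton Γ((Coh.Rpush f 1).obj K, W) := by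
      refine subsingleton_of_forall_eq 0 fun s => ?_
      have h0 := (IsZero.iff_id_eq_zero _).1 hz
      exact congr(($(congrArg (fun φ : (QCohLib.toAbF Y).obj ((Coh.Rpush f 1).obj K) ⟶ _ => φ.hom.app (op W)) h0)) s)
    haveI : Subsingleton (Coh.HH U.toScheme (K.restrict U.ι) 1) := φ.symm.toEquiv.subsingleton
    exact ProjCoh.subsingleton_of_iso e 1
  exact this

end Groth.Agent.SerreAff
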